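import Cfsg.Agent.Lib.PF.Sec1Brauer
import Cfsg.Agent.Lib.BG.T01_Chief
import Cfsg.Agent.Lib.BG.Quo
import Cfsg.Agent.Lib.Clifford.Degree

/-!
# Restriction of invariant characters along abelian chief factors

The going-down theorem and relative M-groups, for ambient class functions.
-/

set_option autoImplicit false

namespace Cfsg.Lib.PF

open Subgroup Cfsg.Lib.BG
open scoped ComplexConjugate commutatorElement

variable {X : Type*} [Group X] [Finite X] {H K L M N T U V : Subgroup X} {θ φ χ ψ : X → ℂ}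

omit [Finite X] in
theorem chief_map {Y : Type*} [Group Y] (h : Chief M V U) (f : X →* Y) (hk : f.ker ≤ V) :
    Chief (M.map f) (V.map f) (U.map f) := by
  refine ⟨lt_of_le_of_ne (map_mono h.lt.le) fun e => h.lt.ne ?_, h.nmlV.map f, h.nmlU.map f,
    fun W hW h1 h2 => ?_⟩
  · rw [← comap_map_eq_self hk, e, comap_map_eq_self (hk.trans h.lt.le)]
  · have hW' : W = (W.comap f).map f := (map_comap_eq_self (h2.trans (map_le_range f U))).symm
    rcases h.min (W.comap f) ((le_comap_map f M).trans (comap_le_norm f hW)) (map_le_iff_le_comap.1 h1)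
      ((comap_mono h2).trans (comap_map_eq_self (hk.trans h.lt.le)).le) with e | e
    · exact Or.inl (by rw [hW', e])
    · exact Or.inr (by rw [hW', e])

/-- A chief factor above a normal subgroup with solvable quotient is an elementary abelian group. -/
theorem chief_elem_mod [N.Normal] (hs : Group.IsSolvable (X ⧸ N)) (h : Chief M V U) (hN : N ≤ V) :
    ∃ q : ℕ, q.Prime ∧ ⁅U, U⁆ ≤ V ∧ ∃ k, 0 < k ∧ V.relIndex U = q ^ k := by
  have hk : (QuotientGroup.mk' N).ker ≤ V := by rwa [QuotientGroup.ker_mk']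
  obtain ⟨q, hq, h1, -, k, hk0, h2⟩ := (chief_map h _ hk).elem inferInstance
  refine ⟨q, hq, ?_, k, hk0, ?_⟩
  · rw [← map_commutator, map_le_iff_le_comap, comap_map_eq_self hk] at h1
    exact h1
  · rw [← h2, ← relIndex_comap, comap_map_eq_self hk]

theorem cfdot_self_of_CFon (hHK : H ≤ K) (hn : K ≤ 𝐍(H)) (hχ : χ ∈ CFon K H) :
    cfdot H χ χ = H.relIndex K * cfdot K χ χ := by
  rw [← cfdot_ind_left hHK χ hχ.1, ind_of_CFon_normal hHK hn hχ, cfdot_smul_left]

/-- The inertia group in `K` of a constituent of an `H`-invariant character is normalized by `H`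
as soon as it is normalized by `K`. -/
theorem norm_inf_inertia (hLK : L ≤ K) (hKL : K ≤ 𝐍(L)) (hK : H ≤ 𝐍(K)) (hL : H ≤ 𝐍(L))
    (hθ : θ ∈ Irr K) (hI : H ≤ inertia θ) (hφ : φ ∈ Irr L) (hne : cfdot L θ φ ≠ 0)
    (hT : K ≤ 𝐍(K ⊓ inertia φ)) : H ≤ 𝐍(K ⊓ inertia φ) := by
  rw [le_norm_iff]
  intro h hh t ht
  refine ⟨conj_mem_of_norm (hK hh) ht.1, ?_⟩
  have h1 : cfConj h φ ∈ cfclass K φ := by
    refine Irr.mem_cfclass_of_over hLK hKL hθ hφ (Irr.cfConj_mem (hL hh) hφ) hne ?_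
    rwa [← mem_inertia.1 (hI hh), cfdot_cfConj (hL hh)]
  obtain ⟨k, hk, e⟩ := mem_cfclass.1 h1
  show h * t * h⁻¹ ∈ inertia φ
  rw [← mem_inertia_cfConj, ← e, mem_inertia_cfConj]
  exact (conj_mem_of_norm (hT hk) ht).2

/-- The going-down theorem. -/
theorem Irr.going_down (hc : Chief H L K) (hab : ⁅K, K⁆ ≤ L) (hθ : θ ∈ Irr K) (hI : H ≤ inertia θ) :
    res L θ ∈ Irr L ∨ (∃ φ ∈ Irr L, ∃ e : ℕ, res L θ = (e : ℂ) • φ ∧ e ^ 2 = L.relIndex K) ∨
      ∃ φ ∈ Irr L, K ⊓ inertia φ ≤ L ∧ ind L K φ = θ := by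
  classical
  have hLK : L ≤ K := hc.lt.le
  have hKL : K ≤ 𝐍(L) := hc.nmlU.le.trans hc.nmlV.norm
  obtain ⟨φ, hφ, hne⟩ := Irr.exists_res_constituent hLK hθ
  have hLT : L ≤ K ⊓ inertia φ := le_inf hLK (CF.le_inertia (Irr.mem_CF hφ))
  rcases hc.min (K ⊓ inertia φ) (norm_inf_inertia hLK hKL hc.nmlU.norm hc.nmlV.norm hθ hI hφ hne
    (norm_of_comm_le_of_le (hab.trans hLT) inf_le_left)) hLT inf_le_left with hT | hT
  · exact Or.inr (Or.inr ⟨φ, hφ, hT.le,
      (Irr.eq_ind_of_over hLK ((ind_mem_Irr_iff hLK hKL hφ).2 hT.le) hθ hne).symm⟩)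
  have hKI : K ≤ inertia φ := inf_eq_left.1 hT
  obtain ⟨e, he⟩ := (Irr.isChar hθ).exists_cfdot_res_nat hLK (Irr.isChar hφ)
  have hres : res L θ = (e : ℂ) • φ := by
    rw [← he]; exact Irr.res_eq_smul_of_le_inertia hLK hKL hθ hφ hne hKI
  have hsupp : closure {x | θ x ≠ 0} ≤ K :=
    (closure_le _).2 fun x hx => CF.mem_of_ne_zero (Irr.mem_CF hθ) hx
  have hnS : H ≤ 𝐍(closure {x | θ x ≠ 0}) := by
    refine le_trans (fun h hh => ?_) (Subgroup.normalizer_le_normalizer_closure _)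
    intro x
    simp only [Set.mem_ofPred_eq, mem_inertia_iff.1 (hI hh) x]
  rcases hc.min (L ⊔ closure {x | θ x ≠ 0}) (norm_sup hc.nmlV.norm hnS) le_sup_left
    (sup_le hLK hsupp) with hM | hM
  · refine Or.inr (Or.inl ⟨φ, hφ, e, hres, ?_⟩)
    have h1 := cfdot_self_of_CFon hLK hKL (χ := θ) ⟨Irr.mem_CF hθ, fun x hx => by
      by_contra h0
      exact hx ((sup_eq_left.1 hM) (subset_closure h0))⟩
    rw [Irr.cfdot_self hθ, ← cfdot_res_left, ← cfdot_res_right, hres, cfdot_smul_left,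
      cfdot_smul_right, Irr.cfdot_self hφ, map_natCast, mul_one, mul_one, ← sq] at h1
    exact_mod_cast h1
  · left
    obtain ⟨C, hC, hcard, -, -⟩ := ind_eq_smul_sum_of_const hLK hKL hφ (e := e) (fun χ hχ h1 => by
      rw [← he]
      exact cfdot_eq_of_abelian_inertia hLK hKL hφ (by rwa [hT]) hθ hχ hne h1)
    rw [hT, ← card_Irr_le_cfker hLK hKL hab] at hcard
    have hlin : ∀ l ∈ (Irr K).filter (fun χ => L ≤ cfker χ), l 1 = 1 := fun l hl =>
      Irr.apply_one_of_commutator_le (Finset.mem_filter.1 hl).1 (hab.trans (Finset.mem_filter.1 hl).2)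
    have hle : ((Irr K).filter (fun χ => L ≤ cfker χ)).card ≤ C.card := by
      refine Finset.card_le_card_of_injOn (fun l => l * θ) (fun l hl => ?_) fun l₁ h₁ l₂ h₂ e => ?_
      · obtain ⟨hl1, hl2⟩ := Finset.mem_filter.1 hl
        refine (hC _).2 ⟨Irr.mul_mem_of_apply_one hθ (Irr.isChar hl1) (hlin l hl), ?_⟩
        beta_reduce
        rwa [cfdot_congr (φ' := θ) (ψ' := φ) (fun x hx => by
          rw [Pi.mul_apply, cfker_apply (hl2 hx), hlin l hl, one_mul]) (fun _ _ => rfl)]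
      · obtain ⟨f₁, rfl⟩ := (Irr.isChar (Finset.mem_filter.1 h₁).1).exists_linChar (hlin _ h₁)
        obtain ⟨f₂, rfl⟩ := (Irr.isChar (Finset.mem_filter.1 h₂).1).exists_linChar (hlin _ h₂)
        have key : ∀ x (hx : x ∈ K), linChar K f₁ x = linChar K f₂ x →
            x ∈ (f₁.eqLocus f₂).map K.subtype := fun x hx h => by
          rw [linChar_of_mem f₁ hx, linChar_of_mem f₂ hx] at h
          exact ⟨⟨x, hx⟩, Units.ext h, rfl⟩
        have hKE : K ≤ (f₁.eqLocus f₂).map K.subtype := by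
          refine hM.ge.trans (sup_le (fun x hx => key x (hLK hx) ?_)
            ((closure_le _).2 fun x hx => key x (hsupp (subset_closure hx)) ?_))
          · rw [cfker_apply ((Finset.mem_filter.1 h₁).2 hx), cfker_apply ((Finset.mem_filter.1 h₂).2 hx),
              linChar_apply_one, linChar_apply_one]
          · exact mul_right_cancel₀ hx (congrFun e x)
        congr 1
        ext x
        obtain ⟨y, hy, hxy⟩ := hKE x.2
        rw [← show y = x from Subtype.ext hxy]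
        exact congrArg _ hy
    have hpos : 0 < ((Irr K).filter (fun χ => L ≤ cfker χ)).card := by
      rw [card_Irr_le_cfker hLK hKL hab]; exact relIndex_pos L K
    have he0 : e ≠ 0 := by rintro rfl; exact hne (by simpa using he)
    have he1 : e = 1 := by
      by_contra h1
      have h2 : 2 ^ 2 ≤ e ^ 2 := Nat.pow_le_pow_left (by omega) 2
      have h3 := Nat.mul_le_mul_right C.card h2
      omega
    rw [hres, he1, Nat.cast_one, one_smul]
    exact hφ

theorem IsChar.mem_Irr_of_res (hHK : H ≤ K) (hχ : IsChar K χ) (h : PF.res H χ ∈ Irr H) :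
    χ ∈ Irr K := by
  have h0 : χ ≠ 0 := by rintro rfl; exact Irr.ne_zero h (map_zero _)
  obtain ⟨ψ, hψ, hne⟩ := hχ.exists_constituent h0
  obtain ⟨θ, hθ, hne'⟩ := Irr.exists_res_constituent hHK hψ
  have h1 := hχ.cfdot_ne_zero_trans hHK le_rfl hψ (Irr.isChar hθ) hne hne'
  rw [← cfdot_res_left] at h1
  have h2 := ((Irr.isChar hψ).res hHK).deg_le_of_cfdot hθ (by rwa [cfdot_res_left])
  rw [← Irr.eq_of_cfdot_ne_zero h hθ h1, deg_res, deg_res] at h2
  rw [hχ.eq_of_deg_le hψ hne h2]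
  exact hψ

theorem Irr.dvd_relIndex_of_res_eq_smul (hHK : H ≤ K) (hn : K ≤ 𝐍(H)) (hχ : χ ∈ Irr K)
    (hθ : θ ∈ Irr H) {e : ℕ} (h : res H χ = (e : ℂ) • θ) : e ∣ H.relIndex K := by
  haveI := (normal_subgroupOf_iff_le_normalizer hHK).2 hn
  haveI := Fintype.ofFinite (H.subgroupOf K)
  refine Clifford.dvd_index_of_res_eq_smul (H.subgroupOf K) (mem_Irr.1 hχ).2
    (Irr.isIrrCharacter_subgroupOf hHK hθ) (funext fun x => ?_)
  have := congrFun h ((x : K) : X)
  rwa [res_of_mem _ (mem_subgroupOf.1 x.2)] at this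

theorem Irr.apply_eq_zero_of_cfdot_eq_relIndex (hHK : H ≤ K) (hχ : χ ∈ Irr K)
    (h : cfdot H χ χ = H.relIndex K) {x : X} (hx : x ∉ H) : χ x = 0 := by
  by_cases hxK : x ∈ K
  swap
  · exact CF.zero_off (Irr.mem_CF hχ) hxK
  have h1 := Irr.cfnorm_eq hχ
  have h2 : cfnorm H χ = H.relIndex K := cfnorm_of_cfdot (by rw [h]; simp)
  rw [cfnorm_def, inv_mul_eq_iff_eq_mul₀ (card_pos_real _).ne'] at h1 h2
  rw [← sum_fs_diff (show (H : Set X) ⊆ K from hHK), h2, ← card_mul_relIndex' hHK] at h1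
  push_cast at h1
  have h3 : ∑ x ∈ fs ((K : Set X) \ H), ‖χ x‖ ^ 2 = 0 := by linarith
  rw [Finset.sum_eq_zero_iff_of_nonneg fun _ _ => by positivity] at h3
  simpa using h3 x (mem_fs.2 ⟨hxK, hx⟩)

/-- Relative M-groups. -/
theorem Irr.exists_ind_eq_res_mem [N.Normal] (hs : Group.IsSolvable (X ⧸ N))
    (hsq : ∀ H L K : Subgroup X, N ≤ L → Chief H L K → ¬ IsSquare (L.relIndex K)) (hNH : N ≤ H)
    (hχ : χ ∈ Irr H) : ∃ U : Subgroup X, N ≤ U ∧ U ≤ H ∧ ∃ ψ ∈ Irr U, ind U H ψ = χ ∧ res N ψ ∈ Irr N := by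
  induction H using WellFoundedLT.induction generalizing χ with
  | ind H ih =>
  obtain ⟨K, ⟨hNK, hK, hKχ⟩, hmin⟩ := (wellFounded_lt (α := Subgroup X)).has_min
    {K | N ≤ K ∧ Nml K H ∧ res K χ ∈ Irr K}
    ⟨H, hNH, Nml.refl H, by rwa [CF.res_eq (Irr.mem_CF hχ)]⟩
  rcases hNK.eq_or_lt with rfl | hlt
  · exact ⟨H, hNH, le_rfl, χ, hχ, ind_self (Irr.mem_CF hχ), hKχ⟩
  obtain ⟨L, hc, hNL⟩ := exists_chief_ge ⟨hNH, le_normalizer_of_normal⟩ hK hlt
  obtain ⟨q, -, hab, -⟩ := chief_elem_mod hs hc hNL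
  have hI : H ≤ inertia (res K χ) := fun h hh => by
    rw [mem_inertia, cfConj_res (hK.norm hh), CF.cfConj_eq (Irr.mem_CF hχ) hh]
  rcases Irr.going_down hc hab hKχ hI with h | ⟨φ, -, e, -, h⟩ | ⟨φ, hφ, hT, h⟩
  · rw [res_res hc.lt.le] at h
    exact absurd hc.lt (hmin L ⟨hNL, hc.nmlV, h⟩)
  · exact absurd ⟨e, by rw [← h, sq]⟩ (hsq H L K hNL hc)
  · have hLT : L ≤ H ⊓ inertia φ := le_inf hc.nmlV.le (CF.le_inertia (Irr.mem_CF hφ))
    have hne : cfdot L χ φ ≠ 0 := by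
      rw [← cfdot_res_left, ← res_res hc.lt.le, cfdot_res_left,
        ← cfdot_ind_right hc.lt.le φ (Irr.mem_CF hKχ), h, Irr.cfdot_self hKχ]
      exact one_ne_zero
    obtain ⟨ψ, hψ, e, -⟩ := exists_ind_eq_of_over hLT inf_le_left hc.nmlV.norm hφ le_rfl hχ hne
    obtain ⟨U, h1, h2, β, hβ, h3, h4⟩ := ih (H ⊓ inertia φ) (lt_of_le_of_ne inf_le_left fun e =>
      hc.lt.not_ge ((le_inf le_rfl (hK.le.trans (inf_eq_left.1 e))).trans hT)) (hNL.trans hLT) hψ
    exact ⟨U, h1, h2.trans inf_le_left, β, hβ, by rw [← ind_ind h2 inf_le_left, h3, e], h4⟩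

/-- The restriction of `χ` to `M` is a multiple of an irreducible character. -/
def Homog (M : Subgroup X) (χ : X → ℂ) : Prop := ∃ φ ∈ Irr M, ∃ e : ℕ, res M χ = (e : ℂ) • φ

theorem le_inertia_of_res_eq_smul (hn : K ≤ 𝐍(H)) (hχ : χ ∈ CF K) {e : ℂ} (he : e ≠ 0)
    (h : res H χ = e • θ) : K ≤ inertia θ := fun k hk => by
  rw [mem_inertia]
  refine smul_right_injective _ he ?_
  beta_reduce
  rw [← map_smul, ← h, cfConj_res (hn hk), CF.cfConj_eq hχ hk]

theorem res_eq_smul_of_cfdot_ne_zero {e : ℕ} (hθ : θ ∈ Irr H) (hφ : φ ∈ Irr H)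
    (h : res H χ = (e : ℂ) • θ) (hne : cfdot H χ φ ≠ 0) : θ = φ := by
  by_contra hn
  rw [← cfdot_res_left, h, cfdot_smul_left, Irr.cfdot_ne hθ hφ hn, mul_zero] at hne
  exact hne rfl

/-- If `η^M = e ξ` with `e ^ 2 = |M : Q|`, then `ξ` restricts to `e η` and vanishes off `Q`. -/
theorem res_eq_of_ind_eq_smul {Q : Subgroup X} {η ξ : X → ℂ} (hQM : Q ≤ M) (hη : η ∈ Irr Q)
    (hξ : ξ ∈ Irr M) {e : ℕ} (h : ind Q M η = (e : ℂ) • ξ) (he : e ^ 2 = Q.relIndex M) :
    res Q ξ = (e : ℂ) • η ∧ ∀ x, x ∉ Q → ξ x = 0 := by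
  have he0 : (e : ℂ) ≠ 0 := by
    rw [Nat.cast_ne_zero]; rintro rfl; exact relIndex_ne_zero Q M (by simpa using he.symm)
  have h1 : cfdot Q (res Q ξ) η = e := by
    rw [cfdot_res_left, ← cfdot_ind_right hQM η (Irr.mem_CF hξ), h, cfdot_smul_right,
      Irr.cfdot_self hξ, map_natCast, mul_one]
  have h2 : ξ 1 = e * η 1 := by
    have := congrFun h 1
    rw [ind_one η hQM, ← he, Pi.smul_apply, smul_eq_mul] at this
    refine mul_left_cancel₀ he0 ?_
    rw [← this]; push_cast; ring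
  have h3 : res Q ξ = (e : ℂ) • η := by
    have := (((Irr.isChar hξ).res hQM).sub_cfdot_smul hη).eq_zero_of_apply_one (by
      rw [h1, Pi.sub_apply, res_one_apply, h2, Pi.smul_apply, smul_eq_mul, sub_self])
    rwa [h1, sub_eq_zero] at this
  refine ⟨h3, fun x hx => Irr.apply_eq_zero_of_cfdot_eq_relIndex hQM hξ ?_ hx⟩
  rw [← cfdot_res_left, ← cfdot_res_right, h3, cfdot_smul_left, cfdot_smul_right, Irr.cfdot_self hη,
    map_natCast, ← he]
  push_cast; ring

omit [Finite X] in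
theorem exists_mul_of_sup_eq_top [M.Normal] (h : H ⊔ M = ⊤) (k : X) :
    ∃ h ∈ H, ∃ m ∈ M, k = h * m := by
  obtain ⟨y, hy, n, hn, e⟩ := (mem_sup_right_norm (x := k) (H := H) (N := M)
    le_normalizer_of_normal).1 (h ▸ mem_top k)
  exact ⟨y, hy, n, hn, e.symm⟩

/-- An irreducible character induced from a maximal subgroup `H`, from a character that remains
irreducible on a normal subgroup `L` with solvable quotient, is not homogeneous on some normal
subgroup containing `L`. -/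
theorem exists_not_homog_of_ind [L.Normal] (hs : Group.IsSolvable (X ⧸ L)) (hLH : L ≤ H)
    (hH : IsCoatom H) (hθ : θ ∈ Irr H) (hθL : res L θ ∈ Irr L) (hχ : ind H ⊤ θ ∈ Irr (⊤ : Subgroup X)) :
    ∃ M : Subgroup X, M.Normal ∧ L ≤ M ∧ ¬ Homog M (ind H ⊤ θ) := by
  by_contra hcon
  push Not at hcon
  set χ := ind H ⊤ θ with hχdef
  set C := H.normalCore with hC
  have hLC : L ≤ C := normal_le_normalCore.2 hLH
  have hCH : C ≤ H := normalCore_le H
  have hirr : ∀ Q, L ≤ Q → Q ≤ H → res Q θ ∈ Irr Q := fun Q h1 h2 =>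
    ((Irr.isChar hθ).res h2).mem_Irr_of_res h1 (by rwa [res_res h1])
  have hχθ : cfdot H χ θ = 1 := by
    rw [← cfdot_ind_right le_top θ (Irr.mem_CF hχ), Irr.cfdot_self hχ]
  have hidx : 1 < H.relIndex ⊤ := by
    have h1 := relIndex_pos H ⊤
    have h2 : H.relIndex ⊤ ≠ 1 := fun e => hH.1 (top_le_iff.1 (relIndex_eq_one.1 e))
    omega
  have hφ := hirr C hLC hCH
  obtain ⟨φ₀, hφ₀, a₀, ha₀⟩ := hcon C inferInstance hLC
  obtain rfl : φ₀ = res C θ := res_eq_smul_of_cfdot_ne_zero hφ₀ hφ ha₀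
    ((Irr.isChar hχ).cfdot_ne_zero_trans hCH le_top hθ (Irr.isChar hφ) (by rw [hχθ]; exact one_ne_zero)
      (by rw [← cfdot_res_left, Irr.cfdot_self hφ]; exact one_ne_zero))
  have ha₀' : a₀ = H.relIndex ⊤ := by
    have := congrFun ha₀ 1
    rw [res_one_apply, hχdef, ind_one θ le_top, Pi.smul_apply, res_one_apply, smul_eq_mul] at this
    exact_mod_cast (mul_right_cancel₀ (Irr.apply_one_ne_zero hθ) this).symm
  have hIφ : ⊤ ≤ inertia (res C θ) := le_inertia_of_res_eq_smul le_normalizer_of_normal (Irr.mem_CF hχ)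
    (Nat.cast_ne_zero.2 (by omega)) ha₀
  have hCH' : C ≠ H := fun e => by
    rw [← cfdot_res_left, ← e, ha₀, cfdot_smul_left, ← cfdot_res_right, Irr.cfdot_self hφ, mul_one,
      Nat.cast_eq_one] at hχθ
    omega
  have hnml : ∀ M : Subgroup X, M.Normal → Nml M ⊤ := fun M h => Nml.top_iff.2 h
  have hsup : ∀ M : Subgroup X, M.Normal → C < M → H ⊔ M = ⊤ := fun M h hlt =>
    hH.2 _ (lt_of_le_of_ne le_sup_left fun e => hlt.not_ge
      (normal_le_normalCore.2 (le_sup_right.trans e.ge)))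
  obtain ⟨K, hK, -⟩ := exists_chief_le (hnml C inferInstance) (Nml.refl ⊤)
    (lt_of_le_of_lt hCH hH.1.lt_top)
  haveI hKn : K.Normal := Nml.top_iff.1 hK.nmlU
  obtain ⟨p, hp, hab, k, hk0, hk⟩ := chief_elem_mod hs hK hLC
  have hHK : H ⊓ K = C := by
    refine le_antisymm ?_ (le_inf hCH hK.lt.le)
    haveI : (H ⊓ K).Normal := by
      rw [← Nml.top_iff]
      refine ⟨le_top, (hsup K hKn hK.lt).ge.trans (sup_le (norm_inf (le_norm H) le_normalizer_of_normal)
        (norm_of_comm_le_of_le (hab.trans (le_inf hCH hK.lt.le)) inf_le_right))⟩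
    exact normal_le_normalCore.2 inf_le_left
  have hres : ∀ M : Subgroup X, M.Normal → C < M → res M χ = ind (H ⊓ M) M (res (H ⊓ M) θ) :=
    fun M h hlt => by
      rw [ind_res_self]
      exact res_ind_of_mul le_top le_top (fun k _ => exists_mul_of_sup_eq_top (hsup M h hlt) k)
        (Irr.mem_CF hθ)
  have hrel : ∀ M : Subgroup X, M.Normal → C < M → (H ⊓ M).relIndex M = H.relIndex ⊤ :=
    fun M h hlt => by
      have := congrFun (hres M h hlt) 1
      rw [res_one_apply, hχdef, ind_one θ le_top, ind_one _ inf_le_right, res_one_apply] at this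
      exact_mod_cast (mul_right_cancel₀ (Irr.apply_one_ne_zero hθ) this).symm
  obtain ⟨ψ, hψ, e, he⟩ := hcon K hKn (hLC.trans hK.lt.le)
  have he2 : e ^ 2 = C.relIndex K := by
    have h1 := cfdot_ind_self hK.lt.le le_normalizer_of_normal hφ
    have h2 := hres K hKn hK.lt
    rw [hHK] at h2
    rw [← h2, he, inf_eq_left.2 (le_top.trans hIφ), cfdot_smul_left, cfdot_smul_right,
      Irr.cfdot_self hψ, map_natCast, mul_one, ← sq] at h1
    exact_mod_cast h1
  have he0 : e ≠ 0 := by rintro rfl; exact relIndex_ne_zero C K (by simpa using he2.symm)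
  have hKtop : K ≠ ⊤ := fun e => hCH' (by rw [← hHK, e, inf_top_eq])
  obtain ⟨M, hM, -⟩ := exists_chief_le hK.nmlU (Nml.refl ⊤) hKtop.lt_top
  haveI hMn : M.Normal := Nml.top_iff.1 hM.nmlU
  obtain ⟨q, hq, -, m, -, hm⟩ := chief_elem_mod hs hM (hLC.trans hK.lt.le)
  have hCM : C < M := hK.lt.trans hM.lt
  have hCQ : C ≤ H ⊓ M := le_inf hCH hCM.le
  -- it suffices to show that `H ⊓ M ≤ C`
  suffices hQC : H ⊓ M ≤ C by
    refine hM.lt.not_ge fun x hx => ?_
    obtain ⟨h, hh, y, hy, rfl⟩ := exists_mul_of_sup_eq_top (hsup K hKn hK.lt) x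
    exact K.mul_mem (hK.lt.le (hQC ⟨hh, by simpa using M.mul_mem hx (M.inv_mem (hM.lt.le hy))⟩)) hy
  by_cases hqp : q = p
  · subst hqp
    haveI := Fact.mk hq
    have hk' : (QuotientGroup.mk' C).ker ≤ C := by rw [QuotientGroup.ker_mk']
    have hnil : Group.IsNilpotent (M.map (QuotientGroup.mk' C)) := by
      refine pgroup_nil (p := q) (IsPGroup.of_card (n := k + m) ?_)
      rw [← relIndex_ker, QuotientGroup.ker_mk', ← relIndex_mul_relIndex C K M hK.lt.le hM.lt.le, hk,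
        hm, pow_add]
    have h1 := Fitting_stab_chief (hM.nmlU.map (QuotientGroup.mk' C)) (chief_map hK _ hk')
    rw [Fitting_eq_self hnil, ← map_commutator, map_le_iff_le_comap, comap_map_eq_self hk'] at h1
    haveI : (H ⊓ M).Normal := by
      rw [← Nml.top_iff]
      refine ⟨le_top, (hsup K hKn hK.lt).ge.trans (sup_le (norm_inf (le_norm H) le_normalizer_of_normal)
        (norm_of_comm_le ?_))⟩
      rw [commutator_comm]
      exact ((commutator_mono le_rfl inf_le_right).trans h1).trans hCQ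
    exact normal_le_normalCore.2 inf_le_left
  obtain ⟨ξ, hξ, a, ha⟩ := hcon M hMn (hLC.trans hCM.le)
  have hIψ : ⊤ ≤ inertia ψ := le_inertia_of_res_eq_smul le_normalizer_of_normal (Irr.mem_CF hχ)
    (Nat.cast_ne_zero.2 he0) he
  have h1 : (a : ℂ) • res K ξ = (e : ℂ) • ψ := by rw [← map_smul, ← ha, res_res hM.lt.le, he]
  obtain ⟨b, hb⟩ := (Irr.isChar hξ).exists_cfdot_res_nat hM.lt.le (Irr.isChar hψ)
  have hab' : a * b = e := by
    have := congrArg (fun f => cfdot K f ψ) h1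
    simp only [cfdot_smul_left, cfdot_res_left, hb, Irr.cfdot_self hψ, mul_one] at this
    exact_mod_cast this
  have hb1 : b = 1 := by
    have h2 := Irr.res_eq_smul_of_le_inertia hM.lt.le le_normalizer_of_normal hξ hψ (by
      rw [hb, Nat.cast_ne_zero]; rintro rfl; exact he0 (by simpa using hab'.symm)) (le_top.trans hIψ)
    rw [hb] at h2
    have h3 := Irr.dvd_relIndex_of_res_eq_smul hM.lt.le le_normalizer_of_normal hξ hψ h2
    have h4 : b ∣ p ^ k := by
      rw [← hk, ← he2, ← hab']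
      exact Dvd.intro_left (a * b * a) (by ring)
    exact Nat.eq_one_of_dvd_coprimes (Nat.coprime_pow_primes m k hq hp hqp) (hm ▸ h3) h4
  rw [hb1, mul_one] at hab'
  subst hab'
  have hη := hirr (H ⊓ M) (hLC.trans hCQ) inf_le_left
  obtain ⟨h2, h3⟩ := res_eq_of_ind_eq_smul inf_le_right hη hξ ((hres M hMn hCM).symm.trans ha)
    (by rw [he2, hrel M hMn hCM, ← hrel K hKn hK.lt, hHK])
  have hIξ : ⊤ ≤ inertia ξ := le_inertia_of_res_eq_smul le_normalizer_of_normal (Irr.mem_CF hχ)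
    (Nat.cast_ne_zero.2 he0) ha
  have h4 := cfdot_self_of_CFon hCQ le_normalizer_of_normal (χ := res (H ⊓ M) θ)
    (mem_CFon_of (Irr.mem_CF hη) fun x hx hxC => by
      by_contra h0
      refine hxC fun g => ?_
      by_contra hg
      have h5 := h3 (g * x * g⁻¹) fun h => hg h.1
      have h6 := congrFun h2 x
      rw [res_of_mem _ hx, ← mem_inertia_iff.1 (hIξ (mem_top g)) x, h5, Pi.smul_apply, smul_eq_mul] at h6
      exact mul_ne_zero (Nat.cast_ne_zero.2 he0) h0 h6.symm)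
  rw [Irr.cfdot_self hη, ← cfdot_res_left, ← cfdot_res_right, res_res hCQ, Irr.cfdot_self hφ, mul_one,
    eq_comm, Nat.cast_eq_one] at h4
  exact relIndex_eq_one.1 h4

end Cfsg.Lib.PF
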